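import Cfsg.Agent.Lib.Golay.Dodecad

/-!
# Dodecads: flags, the order 7920, 3-transitivity on the complement, hexads
-/

set_option autoImplicit false

namespace Cfsg.Agent.Lib.Golay

open Cfsg Cfsg.Agent.Lib.Compute
open scoped Pointwise

theorem exists_GE_d0_point {y : GolayPt} (hy : y ∈ D0) : ∃ g ∈ GE [d0], g (pt 0) = y := by
  obtain ⟨g, hg, hmap⟩ := exists_maps_levels (R := d0) (extra := [d0])
    (fun σ hσ => isInv_D0_of_GE hσ) m12Levels [y] [] (by simp) (by simp)
    (by simpa using hy) (by simp) (by simp [m12Levels]) m12_check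
    (by
      intro lv hlv
      have : m12Levels.take ([y] : List GolayPt).length = [m12Level1] := rfl
      rw [this] at hlv
      simp only [List.mem_cons, List.not_mem_nil, or_false] at hlv
      subst hlv
      exact ⟨rfl, rfl, by simp [m12Level1]⟩)
  rw [List.map_nil, stabL_nil] at hg
  refine ⟨g, hg, ?_⟩
  have h2 : m12Levels.take ([y] : List GolayPt).length = [m12Level1] := rfl
  rw [h2] at hmap
  have h3 : g (pt m12Level1.b) = y := by simpa using hmap
  exact h3

/-- Flags (dodecad, point of it) are moved to the base flag. -/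
theorem exists_flag {d : Finset GolayPt} (hd : d ∈ dodecads) {p : GolayPt} (hp : p ∈ d) :
    ∃ g ∈ M24, d.image g = D0 ∧ g p = pt 0 := by
  obtain ⟨g0, hg0, hg0d⟩ := exists_image_eq_D0 hd
  have hin : g0 p ∈ D0 := by
    rw [← hg0d]
    exact Finset.mem_image_of_mem _ hp
  obtain ⟨a, ha, hap⟩ := exists_GE_d0_point hin
  refine ⟨a⁻¹ * g0, M24.mul_mem (M24.inv_mem ha.1) hg0, ?_, ?_⟩
  · rw [← image_image_mul, hg0d]
    exact (mem_GE_d0_iff.1 ((GE [d0]).inv_mem ha)).2
  · rw [Equiv.Perm.mul_apply, ← hap]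
    simp

theorem orbit_point_of_stabilizer {d : Finset GolayPt} (hd : d ∈ dodecads) {p : GolayPt} (hp : p ∈ d) :
    MulAction.orbit (MulAction.stabilizer M24 d) p = (d : Set GolayPt) := by
  ext q
  constructor
  · rintro ⟨g, rfl⟩
    have h1 : ((g : M24) : Equiv.Perm GolayPt) • d = d := MulAction.mem_stabilizer_iff.1 g.2
    have h2 : d.image ((g : M24) : Equiv.Perm GolayPt) = d := h1
    have h3 : ((g : M24) : Equiv.Perm GolayPt) p ∈ d.image ((g : M24) : Equiv.Perm GolayPt) :=
      Finset.mem_image_of_mem _ hp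
    rw [h2] at h3
    exact h3
  · intro hq
    obtain ⟨g1, hg1, hg1d, hg1p⟩ := exists_flag hd hp
    obtain ⟨g2, hg2, hg2d, hg2q⟩ := exists_flag hd hq
    have hM : g2⁻¹ * g1 ∈ M24 := M24.mul_mem (M24.inv_mem hg2) hg1
    have hstab : (⟨g2⁻¹ * g1, hM⟩ : M24) ∈ MulAction.stabilizer M24 d := by
      rw [MulAction.mem_stabilizer_iff]
      show d.image (⇑(g2⁻¹ * g1)) = d
      rw [← image_image_mul, hg1d, ← hg2d, image_image_mul, inv_mul_cancel, image_one]
    refine ⟨⟨⟨g2⁻¹ * g1, hM⟩, hstab⟩, ?_⟩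
    show (g2⁻¹ * g1) p = q
    rw [Equiv.Perm.mul_apply, hg1p, ← hg2q]
    simp

/-- The stabiliser of a point in a subgroup of `M24` is the intersection. -/
theorem card_stabilizer_subgroup (H : Subgroup M24) (p : GolayPt) :
    Nat.card (MulAction.stabilizer H p) = Nat.card ↥(H ⊓ MulAction.stabilizer M24 p) := by
  apply Nat.card_congr
  exact
    { toFun := fun x => ⟨x.1.1, x.1.2, x.2⟩
      invFun := fun x => ⟨⟨x.1, x.2.1⟩, x.2.2⟩
      left_inv := fun _ => rfl
      right_inv := fun _ => rfl }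

/-- S0387 -/
theorem card_stabilizer_flag {d : Finset GolayPt} (hd : d ∈ dodecads) {p : GolayPt} (hp : p ∈ d) :
    Nat.card ↥(MulAction.stabilizer M24 d ⊓ MulAction.stabilizer M24 p) = 7920 := by
  have h1 := Subgroup.card_mul_index (MulAction.stabilizer (MulAction.stabilizer M24 d) p)
  rw [MulAction.index_stabilizer, orbit_point_of_stabilizer hd hp, card_stabilizer_subgroup,
    Set.ncard_coe_finset, card_stabilizer_dodecad hd, hd.2] at h1
  omega

/-! ### 3-transitivity on the complement -/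

theorem isInv_d0c_of_GE {σ : Equiv.Perm GolayPt} (hσ : σ ∈ GE [d0, d0c]) : IsInv σ d0c :=
  hσ.2 d0c (by simp)

theorem mem_D0c_iff {a : GolayPt} : a ∈ enc.finOf d0c ↔ a ∉ D0 := mem_compl (M := d0)

/-- All triples of the complement are images of the base triple. -/
theorem exists_GE_d0c_maps (x : Fin 3 ↪ GolayPt) (hx : ∀ i, x i ∉ D0) :
    ∃ g ∈ stabL (GE [d0, d0c]) [pt 0], g (pt 5) = x 0 ∧ g (pt 7) = x 1 ∧ g (pt 10) = x 2 := by
  have hnd : (List.ofFn x).Nodup := List.nodup_ofFn.2 x.injective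
  obtain ⟨g, hg, hmap⟩ := exists_maps_levels (R := d0c) (extra := [d0, d0c])
    (fun σ hσ => isInv_d0c_of_GE hσ) m11cLevels (List.ofFn x) [0] hnd
    (by
      intro y hy
      obtain ⟨i, rfl⟩ := (List.mem_ofFn' _ _).1 hy
      simp only [List.map_cons, List.map_nil, List.mem_singleton]
      intro h
      apply hx i
      rw [h]
      rw [Enc.mem_finOf, enc_idx, idx_pt (by norm_num)]
      decide)
    (by
      intro y hy
      obtain ⟨i, rfl⟩ := (List.mem_ofFn' _ _).1 hy
      exact mem_D0c_iff.2 (hx i)) (by simp) (by simp [m11cLevels]) m11c_check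
    (by
      intro lv hlv
      have : m11cLevels.take (List.ofFn x).length = m11cLevels := by simp [m11cLevels]
      rw [this] at hlv
      simp only [m11cLevels, List.mem_cons, List.not_mem_nil, or_false] at hlv
      rcases hlv with rfl | rfl | rfl <;>
        exact ⟨rfl, rfl, by simp [m11cLevel1, m11cLevel2, m11cLevel3]⟩)
  refine ⟨g, hg, ?_⟩
  have h2 : m11cLevels.take (List.ofFn x).length = [m11cLevel1, m11cLevel2, m11cLevel3] := by
    simp [m11cLevels]
  rw [h2] at hmap
  simp only [List.map_cons, List.map_nil, List.ofFn_succ, List.ofFn_zero] at hmap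
  simp only [List.cons.injEq, and_true] at hmap
  exact hmap

theorem GE_d0c_le : GE [d0, d0c] ≤ GE [d0] := by
  intro σ hσ
  exact ⟨hσ.1, fun m hm => hσ.2 m (by simp at hm; simp [hm])⟩

/-- S0389 -/
theorem three_transitive_complement {d : Finset GolayPt} (hd : d ∈ dodecads) {p : GolayPt}
    (hp : p ∈ d) (x y : Fin 3 ↪ GolayPt) (hx : ∀ i, x i ∉ d) (hy : ∀ i, y i ∉ d) :
    ∃ g ∈ MulAction.stabilizer M24 d ⊓ MulAction.stabilizer M24 p,
      ∀ i, (g : Equiv.Perm GolayPt) (x i) = y i := by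
  obtain ⟨g0, hg0, hg0d, hg0p⟩ := exists_flag hd hp
  have hout : ∀ a, a ∉ d → g0 a ∉ D0 := by
    intro a ha hc
    rw [← hg0d, Finset.mem_image] at hc
    obtain ⟨b, hb, hba⟩ := hc
    rw [g0.injective hba] at hb
    exact ha hb
  obtain ⟨a, ha, ha0, ha1, ha2⟩ := exists_GE_d0c_maps (x.trans g0.toEmbedding) (fun i => hout _ (hx i))
  obtain ⟨b, hb, hb0, hb1, hb2⟩ := exists_GE_d0c_maps (y.trans g0.toEmbedding) (fun i => hout _ (hy i))
  have ha' := GE_d0c_le ha.1
  have hb' := GE_d0c_le hb.1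
  have haf : a (pt 0) = pt 0 := ha.2 _ (by simp)
  have hbf : b (pt 0) = pt 0 := hb.2 _ (by simp)
  have hab : b * a⁻¹ ∈ GE [d0] := (GE [d0]).mul_mem hb' ((GE [d0]).inv_mem ha')
  have hk : g0⁻¹ * (b * a⁻¹) * g0 ∈ M24 := M24.mul_mem (M24.mul_mem (M24.inv_mem hg0) hab.1) hg0
  have hD0g : D0.image (⇑g0⁻¹) = d := by
    rw [← hg0d, image_image_mul, inv_mul_cancel, image_one]
  refine ⟨⟨_, hk⟩, Subgroup.mem_inf.2 ⟨MulAction.mem_stabilizer_iff.2 ?_, MulAction.mem_stabilizer_iff.2 ?_⟩, ?_⟩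
  · show d.image (⇑(g0⁻¹ * (b * a⁻¹) * g0)) = d
    have h1 := (mem_GE_d0_iff.1 hab).2
    have : g0⁻¹ * (b * a⁻¹) * g0 = g0⁻¹ * ((b * a⁻¹) * g0) := by
      simp only [mul_assoc]
    rw [this, ← image_image_mul, ← image_image_mul, hg0d, h1, hD0g]
  · show (g0⁻¹ * (b * a⁻¹) * g0) p = p
    simp only [Equiv.Perm.mul_apply]
    rw [hg0p]
    have h1 : a⁻¹ (pt 0) = pt 0 := by
      rw [Equiv.Perm.inv_eq_iff_eq]
      exact haf.symm
    rw [h1, hbf, ← hg0p]
    simp
  · have hfin : ∀ (u v w : GolayPt), a u = g0 v → b u = g0 w →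
        (g0⁻¹ * (b * a⁻¹) * g0) v = w := by
      intro u v w h1 h2
      simp only [Equiv.Perm.mul_apply]
      rw [← h1]
      simp [h2]
    intro i
    show (g0⁻¹ * (b * a⁻¹) * g0) (x i) = y i
    fin_cases i
    · exact hfin _ _ _ ha0 hb0
    · exact hfin _ _ _ ha1 hb1
    · exact hfin _ _ _ ha2 hb2

/-! ### Octads and dodecads -/

theorem exists_word_of_mem_dodecads {o : Finset GolayPt} (ho : o ∈ dodecads) :
    ∃ w ∈ golayCode, support₂ w = o := ho.1

/-- An octad meets a dodecad in 2, 4 or 6 points. -/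
theorem inter_octad_dodecad {o d : Finset GolayPt} (ho : o ∈ octads) (hd : d ∈ dodecads) :
    (o ∩ d).card = 2 ∨ (o ∩ d).card = 4 ∨ (o ∩ d).card = 6 := by
  obtain ⟨v, hv, rfl⟩ := ho.1
  obtain ⟨w, hw, rfl⟩ := hd.1
  have h1 := weight_cases (add_mem hv hw)
  have h2 : hammingNorm (v + w) = (symmDiff (support₂ v) (support₂ w)).card := by
    rw [← support_add]
    rfl
  have h3 := card_symmDiff_add (support₂ v) (support₂ w)
  rw [ho.2, hd.2] at h3
  have h4 : (support₂ v ∩ support₂ w).card ≤ 8 := by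
    have := Finset.card_le_card (Finset.inter_subset_left : support₂ v ∩ support₂ w ⊆ support₂ v)
    rwa [ho.2] at this
  rw [h2] at h1
  omega

/-- S0385 -/
theorem hexads_steiner {d : Finset GolayPt} (hd : d ∈ dodecads) :
    IsSteinerSystem 5 6 {h : Finset {p : GolayPt // p ∈ d} |
      ∃ o ∈ octads, (o ∩ d).card = 6 ∧ h = Finset.subtype (fun p => p ∈ d) o} := by
  constructor
  · rintro h ⟨o, _, hc, rfl⟩
    rw [Finset.card_subtype, Finset.filter_mem_eq_inter, hc]
  · intro s hs
    set S : Finset GolayPt := s.map (Function.Embedding.subtype _) with hSdef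
    have hS : S.card = 5 := by rw [hSdef, Finset.card_map, hs]
    have hSd : S ⊆ d := by
      intro a ha
      rw [hSdef, Finset.mem_map] at ha
      obtain ⟨q, -, rfl⟩ := ha
      exact q.2
    obtain ⟨o, ho, hSo⟩ := octads_exists S hS
    have hge : 5 ≤ (o ∩ d).card := by
      rw [← hS]
      exact Finset.card_le_card (Finset.subset_inter hSo hSd)
    have h6 : (o ∩ d).card = 6 := by
      have := inter_octad_dodecad ho hd
      omega
    have hsub : ∀ q ∈ s, (q : GolayPt) ∈ o := by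
      intro q hq
      apply hSo
      rw [hSdef, Finset.mem_map]
      exact ⟨q, hq, rfl⟩
    refine ⟨Finset.subtype (fun p => p ∈ d) o, ⟨⟨o, ho, h6, rfl⟩, ?_⟩, ?_⟩
    · intro q hq
      rw [Finset.mem_subtype]
      exact hsub q hq
    · rintro h ⟨⟨o', ho', _, rfl⟩, hsh⟩
      have hSo' : S ⊆ o' := by
        intro a ha
        rw [hSdef, Finset.mem_map] at ha
        obtain ⟨q, hq, rfl⟩ := ha
        have := hsh hq
        rw [Finset.mem_subtype] at this
        exact this
      rw [octads_unique ho' ho hS hSo' hSo]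

/-- S0386 -/
theorem octads_meeting_dodecad {d : Finset GolayPt} (hd : d ∈ dodecads) :
    {o : Finset GolayPt | o ∈ octads ∧ (o ∩ d).card = 6}.ncard = 132 ∧
    {o : Finset GolayPt | o ∈ octads ∧ (o ∩ d).card = 2}.ncard = 132 ∧
    {o : Finset GolayPt | o ∈ octads ∧ (o ∩ d).card = 4}.ncard = 495 := by
  classical
  open Cfsg.Agent.Lib.Steiner in
  have hzero : ∀ i, i ≠ 2 → i ≠ 4 → i ≠ 6 → nfib octads d i = 0 := by
    intro i h2 h4 h6
    rw [nfib, Finset.card_eq_zero, Finset.filter_eq_empty_iff]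
    intro c hc hci
    rw [mem_blocks] at hc
    have := inter_octad_dodecad hc hd
    omega
  have hα : Fintype.card GolayPt = 24 := by simp
  have m0 := Cfsg.Agent.Lib.Steiner.moment octads_steiner d 0 759 (by norm_num) (by decide) (by rw [hα]; decide)
  have m1 := Cfsg.Agent.Lib.Steiner.moment octads_steiner d 1 253 (by norm_num) (by decide) (by rw [hα]; decide)
  have m2 := Cfsg.Agent.Lib.Steiner.moment octads_steiner d 2 77 (by norm_num) (by decide) (by rw [hα]; decide)
  rw [hd.2] at m0 m1 m2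
  simp only [Finset.sum_range_succ, Finset.sum_range_zero] at m0 m1 m2
  rw [hzero 0 (by norm_num) (by norm_num) (by norm_num), hzero 1 (by norm_num) (by norm_num) (by norm_num),
    hzero 3 (by norm_num) (by norm_num) (by norm_num), hzero 5 (by norm_num) (by norm_num) (by norm_num),
    hzero 7 (by norm_num) (by norm_num) (by norm_num), hzero 8 (by norm_num) (by norm_num) (by norm_num)] at m0 m1 m2
  norm_num [Nat.choose] at m0 m1 m2
  have hset : ∀ i, {o : Finset GolayPt | o ∈ octads ∧ (o ∩ d).card = i}.ncard = Cfsg.Agent.Lib.Steiner.nfib octads d i := by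
    intro i
    rw [Cfsg.Agent.Lib.Steiner.nfib, ← Set.ncard_coe_finset]
    congr 1
    ext c
    simp only [Set.mem_ofPred_eq, Finset.coe_filter, Cfsg.Agent.Lib.Steiner.mem_blocks]
  rw [hset, hset, hset]
  omega

end Cfsg.Agent.Lib.Golay
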