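import Cfsg.Agent.Lib.Golay.Levels
import Cfsg.Agent.Lib.Golay.M12Data

/-!
# Three levels of the chain of the stabiliser of a dodecad and a point, on the complementary dodecad
(generated by work7/gen_m12.py)
-/

set_option autoImplicit false

namespace Cfsg.Agent.Lib.Golay

open Cfsg Cfsg.Agent.Lib.Compute

/-- Level 1 on the complement. -/
def m11cLevel1 : Level where
  b := 5
  steps := []
  As := [16436384]
  Bs := []
  T :=
    [984818244535754528103549039458486304, 221380567913153392603003632583196960, 902792369472138967643298478365942848, 234442716642025176092355164450128992, 630392078418402407693750080696889408, 238261712544459470229044920504619104, 648657378302330999751454372381933824, 234283958685352998123611421106319456, 650552722810385306823223336416712992, 230718359526607345047592692881666112, 221262676548613772100712823585521760, 298049179017552543672314118455953664]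

/-- Level 2 on the complement. -/
def m11cLevel2 : Level where
  b := 7
  steps := []
  As := [16436384]
  Bs := []
  T :=
    [984818244535754528103549039458486304, 487373122709212905255923294881187872, 858657842587789116710954342070765632, 902952019603030973029003844514783296, 430584902957744825877894449744741504, 642074658530092111014548988346372384, 434029030446743271494525722531500416, 984644637122988982120502427423999488, 845673448621661755229491240527499680, 443114176925591314385835589032518208, 891278327695442200021368611011703072]

/-- Level 3 on the complement. -/
def m11cLevel3 : Level where
  b := 10
  steps := []
  As := [16436384]
  Bs := []
  T :=
    [984818244535754528103549039458486304, 927460647604857250644322238883645472, 734330466351947022443742560843483424, 736792369995607551678985312002971936, 817110407467849866843631507639181728, 444572319133977448504083841375357312, 430544258669838663854081153609867392, 434515729084885303938661815017380224, 653404840335035203042009845793497600, 851103713535390284586433044943063552]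

/-- The levels. -/
def m11cLevels : List Level := [m11cLevel1, m11cLevel2, m11cLevel3]

theorem m11c_check : checkLevels [d0, d0c] m11cLevels [0] = true := by decide +kernel

end Cfsg.Agent.Lib.Golay
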