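import Cfsg.Agent.Lib.Golay.M12Data
import Cfsg.Agent.Lib.Golay.M11cData
import Cfsg.Agent.Lib.Steiner.Count

/-!
# Dodecads: transitivity, stabiliser order, sharp 5-transitivity of the stabiliser, ...
-/

set_option autoImplicit false

namespace Cfsg.Agent.Lib.Golay

open Cfsg Cfsg.Agent.Lib.Compute
open scoped Pointwise

/-- The base dodecad as a finset. -/
noncomputable abbrev D0 : Finset GolayPt := enc.finOf d0

theorem D0_mem : D0 ∈ dodecads := by
  rw [mem_dodecads_iff]
  refine ⟨863, by norm_num, ?_, ?_⟩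
  · rw [word_k0]; decide +kernel
  · rw [word_k0]

/-- Every dodecad is moved to the base one. -/
theorem exists_image_eq_D0 {d : Finset GolayPt} (hd : d ∈ dodecads) :
    ∃ g ∈ M24, d.image g = D0 := by
  obtain ⟨k, hk, hp, rfl⟩ := mem_dodecads_iff.1 hd
  have hS : dodS k = true := by
    show Nat.beq (Enc.popAux (word k) 24) 12 = true
    rw [hp]
    rfl
  obtain ⟨g, hg, himg⟩ := descent (extra := []) (fun p hp => dodGens_check p hp) dod_descent_check k hk hS
  rw [GE_nil] at hg
  refine ⟨g, hg, ?_⟩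
  rw [himg, word_k0]

/-- S0368 -/
theorem dodecads_transitive {d d' : Finset GolayPt} (hd : d ∈ dodecads) (hd' : d' ∈ dodecads) :
    ∃ g : M24, g • d = d' := by
  obtain ⟨g, hg, hgd⟩ := exists_image_eq_D0 hd
  obtain ⟨g', hg', hgd'⟩ := exists_image_eq_D0 hd'
  refine ⟨⟨g'⁻¹ * g, M24.mul_mem (M24.inv_mem hg') hg⟩, ?_⟩
  rw [coe_smul_finset]
  have h1 : d.image (⇑(g'⁻¹ * g)) = (d.image g).image (⇑g'⁻¹) := by
    rw [Finset.image_image]
    rfl
  rw [h1, hgd, ← hgd', Finset.image_image]
  have : (⇑g'⁻¹ ∘ ⇑g') = id := by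
    funext a
    simp
  rw [this, Finset.image_id]

theorem orbit_dodecad {d : Finset GolayPt} (hd : d ∈ dodecads) :
    MulAction.orbit M24 d = dodecads := by
  ext d'
  constructor
  · rintro ⟨g, rfl⟩
    exact image_mem_dodecads g.2 hd
  · intro hd'
    obtain ⟨g, hg⟩ := dodecads_transitive hd hd'
    exact ⟨g, hg⟩

/-- S0382 -/
theorem card_stabilizer_dodecad {d : Finset GolayPt} (hd : d ∈ dodecads) :
    Nat.card (MulAction.stabilizer M24 d) = 95040 := by
  apply card_stabilizer_of_orbit d 2576 _ (by norm_num) _ (by norm_num)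
  rw [orbit_dodecad hd, ncard_dodecads]

/-! ### The chain of the dodecad stabiliser -/

theorem finalL_m12 : finalL m12Levels [] = [4, 3, 2, 1, 0] := rfl

theorem GE_le_nil (extra : List ℕ) : GE extra ≤ GE [] := by
  intro σ hσ
  exact ⟨hσ.1, by simp⟩

theorem isCode_mul {p q : ℕ} (hp : checkPerm 24 (pc p) = true) (hq : checkPerm 24 (pc q) = true) :
    enc.IsCode (ppm p * ppm q) (fun i => pc p (pc q i)) := by
  intro a
  have h1 := enc.isCode_perm hq a
  have h2 := enc.isCode_perm hp (ppm q a)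
  simp only [Equiv.Perm.mul_apply]
  rw [← h2, ← h1]

theorem imgMask_lt {f : ℕ → ℕ} (hf : ∀ i, i < 24 → f i < 24) (m : ℕ) : imgMask f m 24 < 2 ^ 24 := by
  apply Nat.lt_pow_two_of_testBit
  intro j hj
  by_contra h
  have h' : (imgMask f m 24).testBit j = true := by simpa using h
  obtain ⟨i, hi, _, hfi⟩ := (testBit_imgMask f m 24 j).1 h'
  have := hf i hi
  omega

theorem m12_finalOK : FinalOK [d0] m12Levels [] := by
  intro σ hσ
  rw [finalL_m12] at hσ
  have hσ' : σ ∈ stabL (GE []) (([4, 3, 2, 1, 0] : List ℕ).map pt) :=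
    ⟨GE_le_nil _ hσ.1, hσ.2⟩
  obtain ⟨p, hp, q, hq, rfl⟩ := eq_mul_of_two_levels (by decide) m12Aux_check hσ'
  have h0 := List.all_eq_true.1 (List.all_eq_true.1 m12Aux_final p hp) q hq
  simp only [Bool.and_eq_true, Bool.or_eq_true] at h0
  obtain ⟨⟨h1, h2⟩, h3⟩ := h0
  have hpp := checkElt_perm h1
  have hqq := checkElt_perm h2
  have hcode := isCode_mul hpp hqq
  have hinv : IsInv (ppm p * ppm q) d0 := hσ.1.2 d0 (by simp)
  have himg : imgMask (fun i => pc p (pc q i)) d0 24 = d0 := by
    apply enc.finOf_injOn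
    · apply imgMask_lt
      intro i hi
      exact (checkPerm_spec hpp).1 _ ((checkPerm_spec hqq).1 _ hi)
    · decide
    · rw [hcode.finOf_img]
      exact image_of_isInv hinv
  rcases h3 with h3 | h3
  · rw [himg] at h3
    simp at h3
  · refine Equiv.ext fun a => ?_
    have h4 := (allBelow_iff _ _).1 h3 _ (idx_lt a)
    have h5 := Nat.eq_of_beq_eq_true h4
    have h6 := hcode a
    simp only [enc_idx] at h6
    rw [h5] at h6
    have h7 : (ppm p * ppm q) a = a := enc.idx_injective h6.symm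
    rw [h7]
    rfl

theorem card_GE_d0 : Nat.card (GE [d0]) = 95040 := by
  have h := card_stabL_of_levels (L := []) (by simp) m12_check m12_finalOK
  rw [List.map_nil, stabL_nil] at h
  rw [h]
  decide +kernel

theorem isInv_D0_of_GE {σ : Equiv.Perm GolayPt} (hσ : σ ∈ GE [d0]) : IsInv σ d0 := hσ.2 d0 (by simp)

/-- `k`-transitivity of the stabiliser of the base dodecad, `k ≤ 5`: all points in the list are
images of the first base points. -/
theorem exists_GE_d0_maps (x : Fin 5 ↪ GolayPt) (hx : ∀ i, x i ∈ D0) :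
    ∃ g ∈ GE [d0], ∀ i : Fin 5, g (pt i) = x i := by
  have hnd : (List.ofFn x).Nodup := List.nodup_ofFn.2 x.injective
  obtain ⟨g, hg, hmap⟩ := exists_maps_levels (R := d0) (extra := [d0])
    (fun σ hσ => isInv_D0_of_GE hσ) m12Levels (List.ofFn x) [] hnd (by simp)
    (by
      intro y hy
      obtain ⟨i, rfl⟩ := (List.mem_ofFn' _ _).1 hy
      exact hx i) (by simp) (by simp [m12Levels]) m12_check
    (by
      intro lv hlv
      have : m12Levels.take (List.ofFn x).length = m12Levels := by simp [m12Levels]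
      rw [this] at hlv
      simp only [m12Levels, List.mem_cons, List.not_mem_nil, or_false] at hlv
      rcases hlv with rfl | rfl | rfl | rfl | rfl <;>
        exact ⟨rfl, rfl, by simp [m12Level1, m12Level2, m12Level3, m12Level4, m12Level5]⟩)
  rw [List.map_nil, stabL_nil] at hg
  refine ⟨g, hg, ?_⟩
  have h2 : m12Levels.take (List.ofFn x).length = [m12Level1, m12Level2, m12Level3, m12Level4, m12Level5] := by
    simp [m12Levels]
  rw [h2] at hmap
  simp only [List.map_cons, List.map_nil, List.ofFn_succ, List.ofFn_zero] at hmap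
  simp only [List.cons.injEq, and_true] at hmap
  obtain ⟨h0, h1, h2, h3, h4⟩ := hmap
  intro i
  fin_cases i
  · exact h0
  · exact h1
  · exact h2
  · exact h3
  · exact h4

/-- An element of the stabiliser of `D0` fixing five base points is trivial. -/
theorem eq_one_of_fix_base {σ : Equiv.Perm GolayPt} (hσ : σ ∈ GE [d0])
    (hfix : ∀ i : Fin 5, σ (pt i) = pt i) : σ = 1 := by
  apply m12_finalOK
  refine ⟨hσ, ?_⟩
  rw [finalL_m12]
  intro x hx
  simp only [List.map_cons, List.map_nil, List.mem_cons, List.not_mem_nil, or_false] at hx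
  rcases hx with rfl | rfl | rfl | rfl | rfl
  · exact hfix 4
  · exact hfix 3
  · exact hfix 2
  · exact hfix 1
  · exact hfix 0

theorem mem_GE_d0_iff {σ : Equiv.Perm GolayPt} :
    σ ∈ GE [d0] ↔ σ ∈ M24 ∧ D0.image σ = D0 := by
  constructor
  · intro h
    exact ⟨h.1, image_of_isInv (isInv_D0_of_GE h)⟩
  · rintro ⟨h1, h2⟩
    refine ⟨h1, fun m hm => ?_⟩
    simp only [List.mem_singleton] at hm
    subst hm
    exact isInv_of_image h2

theorem image_image_mul (a b : Equiv.Perm GolayPt) (s : Finset GolayPt) :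
    (s.image b).image a = s.image (a * b) := by
  rw [Finset.image_image]
  rfl

theorem image_one (s : Finset GolayPt) : s.image (1 : Equiv.Perm GolayPt) = s := by
  have : ((1 : Equiv.Perm GolayPt) : GolayPt → GolayPt) = id := rfl
  rw [this, Finset.image_id]

/-- Conjugation by an element taking `d` to `D0`. -/
theorem conj_mem_GE {d : Finset GolayPt} {g h : Equiv.Perm GolayPt} (hg : g ∈ M24)
    (hgd : d.image g = D0) (hh : h ∈ M24) (hhd : d.image h = d) :
    g * h * g⁻¹ ∈ GE [d0] := by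
  rw [mem_GE_d0_iff]
  refine ⟨M24.mul_mem (M24.mul_mem hg hh) (M24.inv_mem hg), ?_⟩
  have h1 : D0.image (⇑g⁻¹) = d := by
    rw [← hgd, image_image_mul, inv_mul_cancel, image_one]
  rw [← image_image_mul, ← image_image_mul, h1, hhd, hgd]

/-- S0384 -/
theorem sharply_five_transitive {d : Finset GolayPt} (hd : d ∈ dodecads) (x y : Fin 5 ↪ GolayPt)
    (hx : ∀ i, x i ∈ d) (hy : ∀ i, y i ∈ d) :
    ∃! g : MulAction.stabilizer M24 d, ∀ i, ((g : M24) : Equiv.Perm GolayPt) (x i) = y i := by
  obtain ⟨g0, hg0, hg0d⟩ := exists_image_eq_D0 hd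
  have hinD : ∀ a ∈ d, g0 a ∈ D0 := fun a ha => by
    rw [← hg0d]
    exact Finset.mem_image_of_mem _ ha
  obtain ⟨a, ha, hax⟩ := exists_GE_d0_maps (x.trans g0.toEmbedding) (fun i => hinD _ (hx i))
  obtain ⟨b, hb, hby⟩ := exists_GE_d0_maps (y.trans g0.toEmbedding) (fun i => hinD _ (hy i))
  have hD0g : D0.image (⇑g0⁻¹) = d := by
    rw [← hg0d, image_image_mul, inv_mul_cancel, image_one]
  let k : Equiv.Perm GolayPt := g0⁻¹ * (b * a⁻¹) * g0
  have hab : b * a⁻¹ ∈ GE [d0] := (GE [d0]).mul_mem hb ((GE [d0]).inv_mem ha)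
  have hk : k ∈ M24 := M24.mul_mem (M24.mul_mem (M24.inv_mem hg0) hab.1) hg0
  have hkd : d.image k = d := by
    have h1 := (mem_GE_d0_iff.1 hab).2
    have : k = g0⁻¹ * ((b * a⁻¹) * g0) := by
      simp only [k, mul_assoc]
    rw [this, ← image_image_mul, ← image_image_mul, hg0d, h1, hD0g]
  refine ⟨⟨⟨k, hk⟩, MulAction.mem_stabilizer_iff.2 hkd⟩, ?_, ?_⟩
  · intro i
    show k (x i) = y i
    simp only [k, Equiv.Perm.mul_apply]
    have h1 : g0 (x i) = a (pt i) := (hax i).symm
    have h2 : a⁻¹ (a (pt i)) = pt i := by simp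
    have h3 : b (pt i) = g0 (y i) := hby i
    rw [h1, h2, h3]
    simp
  · rintro ⟨⟨l, hl⟩, hld⟩ hlx
    have hld' : d.image l = d := MulAction.mem_stabilizer_iff.1 hld
    have hlx' : ∀ i, l (x i) = y i := hlx
    -- `a⁻¹ g0 (k⁻¹ l) g0⁻¹ a` fixes the base
    have hc := conj_mem_GE (d := d) (g := a⁻¹ * g0) (h := k⁻¹ * l)
      (M24.mul_mem (M24.inv_mem ha.1) hg0) (by
        rw [← image_image_mul, hg0d]
        exact (mem_GE_d0_iff.1 ((GE [d0]).inv_mem ha)).2)
      (M24.mul_mem (M24.inv_mem hk) hl) (by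
        have h1 : d.image (⇑k⁻¹) = d := by
          conv_lhs => rw [← hkd]
          rw [image_image_mul, inv_mul_cancel, image_one]
        rw [← image_image_mul, hld', h1])
    have hfix := eq_one_of_fix_base hc (by
      intro i
      have h1 : (a⁻¹ * g0)⁻¹ (pt i) = x i := by
        rw [Equiv.Perm.inv_eq_iff_eq]
        simp only [Equiv.Perm.mul_apply]
        have := hax i
        simp only [Function.Embedding.trans_apply] at this
        have h2 : g0 (x i) = a (pt i) := this.symm
        rw [h2]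
        simp
      simp only [Equiv.Perm.mul_apply]
      rw [h1, hlx' i]
      have h2 : k⁻¹ (y i) = x i := by
        rw [Equiv.Perm.inv_eq_iff_eq]
        simp only [k, Equiv.Perm.mul_apply]
        have h1' : g0 (x i) = a (pt i) := (hax i).symm
        have h2' : a⁻¹ (a (pt i)) = pt i := by simp
        have h3 : b (pt i) = g0 (y i) := hby i
        rw [h1', h2', h3]
        simp
      rw [h2]
      have h3 : g0 (x i) = a (pt i) := (hax i).symm
      rw [h3]
      simp)
    have h1 : k⁻¹ * l = 1 := by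
      have h2 : a⁻¹ * g0 * (k⁻¹ * l) * (a⁻¹ * g0)⁻¹ = 1 := hfix
      rw [mul_inv_eq_one] at h2
      exact mul_left_cancel (a := a⁻¹ * g0) (by rw [h2, mul_one])
    apply Subtype.ext
    apply Subtype.ext
    exact (inv_mul_eq_one.1 h1).symm

end Cfsg.Agent.Lib.Golay
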