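import Cfsg.Agent.Lib.Golay.Orbit

/-!
# Chains without the final closure check

`checkLevels` checks the levels of a chain only.  Triviality of the last stabiliser is a separate
hypothesis `FinalOK`.
-/

set_option autoImplicit false

namespace Cfsg.Agent.Lib.Golay

open Cfsg Cfsg.Agent.Lib.Compute
open scoped Pointwise

/-- The check of the levels of a chain. -/
noncomputable def checkLevels (extra : List ℕ) : List Level → List ℕ → Bool
  | [], _ => true
  | lv :: rest, L => checkLevel extra L lv && checkLevels extra rest (lv.b :: L)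

/-- The fixed list at the end of a chain. -/
def finalL : List Level → List ℕ → List ℕ
  | [], L => L
  | lv :: rest, L => finalL rest (lv.b :: L)

/-- The last stabiliser is trivial. -/
def FinalOK (extra : List ℕ) (levels : List Level) (L : List ℕ) : Prop :=
  ∀ σ ∈ stabL (GE extra) ((finalL levels L).map pt), σ = 1

theorem checkLevels_cons {extra : List ℕ} {lv : Level} {rest : List Level} {L : List ℕ}
    (h : checkLevels extra (lv :: rest) L = true) :
    checkLevel extra L lv = true ∧ checkLevels extra rest (lv.b :: L) = true := by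
  simpa [checkLevels] using h

theorem checkChain_cons {extra : List ℕ} {final : List (List ℕ × List ℕ)} {lv : Level}
    {rest : List Level} {L : List ℕ} (h : checkChain extra final (lv :: rest) L = true) :
    checkLevel extra L lv = true ∧ checkChain extra final rest (lv.b :: L) = true := by
  simpa [checkChain] using h

theorem checkLevels_of_checkChain {extra : List ℕ} {final : List (List ℕ × List ℕ)} :
    ∀ (levels : List Level) (L : List ℕ), checkChain extra final levels L = true →
      checkLevels extra levels L = true := by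
  intro levels
  induction levels with
  | nil => intro L _; rfl
  | cons lv rest ih =>
    intro L h
    obtain ⟨h1, h2⟩ := checkChain_cons h
    show (checkLevel extra L lv && checkLevels extra rest (lv.b :: L)) = true
    rw [h1, ih _ h2]
    rfl

theorem finalOK_of_checkChain {extra : List ℕ} {final : List (List ℕ × List ℕ)} :
    ∀ (levels : List Level) (L : List ℕ), (∀ x ∈ L, x < 24) → checkChain extra final levels L = true →
      FinalOK extra levels L := by
  intro levels
  induction levels with
  | nil =>
    intro L hL h σ hσ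
    have h1 : closRun extra final (maskL L) = ALL := Nat.eq_of_beq_eq_true h
    have h2 := closRun_fix hσ.1 final (maskL L) (fix_of_stabL hL hσ)
    rw [h1] at h2
    ext a
    have h3 : a ∈ enc.finOf ALL := by
      rw [Enc.mem_finOf]
      exact testBit_ALL (enc.idx_lt a)
    rw [h2 a h3]
    rfl
  | cons lv rest ih =>
    intro L hL h
    obtain ⟨h1, h2⟩ := checkChain_cons h
    obtain ⟨_, hb, _⟩ := checkLevel_spec h1
    refine ih (lv.b :: L) ?_ h2
    intro x hx
    rcases List.mem_cons.1 hx with rfl | hx
    · exact hb
    · exact hL x hx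

theorem stabL_cons_le {G : Subgroup (Equiv.Perm GolayPt)} {l : List GolayPt} {b : GolayPt} :
    stabL G (b :: l) ≤ stabL G l := fun _ hσ => ⟨hσ.1, fun x hx => hσ.2 x (List.mem_cons_of_mem _ hx)⟩

/-- The cover property of a level: every element has the same image of `b` as a `T`-element. -/
theorem level_cover {extra L : List ℕ} {lv : Level} (hL : ∀ x ∈ L, x < 24)
    (h : checkLevel extra L lv = true) {σ : Equiv.Perm GolayPt}
    (hσ : σ ∈ stabL (GE extra) (L.map pt)) :
    ∃ p ∈ lv.T, ppm p ∈ stabL (GE extra) (L.map pt) ∧ ppm p (pt lv.b) = σ (pt lv.b) := by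
  obtain ⟨hv, hb, hbc, _⟩ := checkLevel_spec h
  have hfixX := closRun_fix hσ.1 lv.steps (maskL L) (fix_of_stabL hL hσ)
  have hinv := isInv_cell_of_valid hσ.1 hfixX hv
  have hbmem : pt lv.b ∈ enc.finOf (cell (closRun extra lv.steps (maskL L)) lv.As lv.Bs) := by
    rw [Enc.mem_finOf, enc_idx, idx_pt hb, ← tb_eq]
    exact hbc
  exact level_exists hL h ((hinv _).2 hbmem)

/-- Generation from a chain. -/
theorem stabL_le_of_levels {extra : List ℕ} (N : Subgroup (Equiv.Perm GolayPt)) :
    ∀ (levels : List Level) (L : List ℕ), (∀ x ∈ L, x < 24) → checkLevels extra levels L = true →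
      FinalOK extra levels L → (∀ lv ∈ levels, ∀ p ∈ lv.T, ppm p ∈ N) →
      stabL (GE extra) (L.map pt) ≤ N := by
  intro levels
  induction levels with
  | nil =>
    intro L _ _ hfin _ σ hσ
    rw [hfin σ hσ]
    exact one_mem _
  | cons lv rest ih =>
    intro L hL hc hfin hT σ hσ
    obtain ⟨h1, h2⟩ := checkLevels_cons hc
    obtain ⟨_, hb, _⟩ := checkLevel_spec h1
    obtain ⟨p, hp, hpm, hpb⟩ := level_cover hL h1 hσ
    have hnext : (ppm p)⁻¹ * σ ∈ stabL (GE extra) ((lv.b :: L).map pt) := by
      have h3 := (stabL (GE extra) (L.map pt)).mul_mem ((stabL (GE extra) (L.map pt)).inv_mem hpm) hσ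
      refine ⟨h3.1, fun x hx => ?_⟩
      rcases List.mem_cons.1 hx with rfl | hx
      · rw [Equiv.Perm.mul_apply, ← hpb]
        simp
      · exact h3.2 x hx
    have h4 := ih (lv.b :: L) (by
        intro x hx
        rcases List.mem_cons.1 hx with rfl | hx
        · exact hb
        · exact hL x hx) h2 hfin (fun lv' hlv' p' hp' => hT lv' (List.mem_cons_of_mem _ hlv') p' hp') hnext
    have h5 : σ = ppm p * ((ppm p)⁻¹ * σ) := by group
    rw [h5]
    exact N.mul_mem (hT lv (by simp) p hp) h4

/-- The chain property from the levels. -/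
theorem chainOK_of_levels {extra : List ℕ} :
    ∀ (levels : List Level) (L : List ℕ), (∀ x ∈ L, x < 24) → checkLevels extra levels L = true →
      FinalOK extra levels L → ChainOK (GE extra) (levels.map Level.sem) (L.map pt) := by
  intro levels
  induction levels with
  | nil =>
    intro L _ _ hfin σ hσ
    exact hfin σ hσ
  | cons lv rest ih =>
    intro L hL hc hfin
    obtain ⟨h1, h2⟩ := checkLevels_cons hc
    obtain ⟨_, hb, _, _, helt, hnd⟩ := checkLevel_spec h1
    refine ⟨?_, ?_, ?_, ?_⟩
    · intro t ht
      obtain ⟨p, hp, rfl⟩ := List.mem_map.1 ht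
      exact checkElt_mem (helt p hp) hL
    · intro σ hσ
      obtain ⟨p, hp, _, hpb⟩ := level_cover hL h1 hσ
      exact ⟨ppm p, List.mem_map_of_mem hp, hpb⟩
    · have h5 : ((lv.T.map ppm).map fun t => t (pt lv.b)).map idx = lv.T.map fun p => pc p lv.b := by
        simp only [List.map_map]
        apply List.map_congr_left
        intro p hp
        simp only [Function.comp_apply]
        have := enc.idx_perm_apply (checkElt_perm (helt p hp)) (pt lv.b)
        rw [enc_idx, enc_idx, idx_pt hb] at this
        exact this
      exact List.Nodup.of_map idx (h5 ▸ hnd)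
    · have := ih (lv.b :: L) (fun x hx => by
        rcases List.mem_cons.1 hx with rfl | hx
        · exact hb
        · exact hL x hx) h2 hfin
      simpa using this

/-- The order from the levels. -/
theorem card_stabL_of_levels {extra : List ℕ} {levels : List Level} {L : List ℕ}
    (hL : ∀ x ∈ L, x < 24) (h : checkLevels extra levels L = true) (hf : FinalOK extra levels L) :
    Nat.card (stabL (GE extra) (L.map pt)) = (levels.map fun lv => lv.T.length).prod := by
  have h1 := card_of_chainOK (GE extra) _ _ (chainOK_of_levels levels L hL h hf)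
  rw [h1, List.map_map]
  congr 1
  apply List.map_congr_left
  intro lv _
  simp [Level.sem]

/-- Multiple transitivity from the levels of a chain. -/
theorem exists_maps_levels {extra : List ℕ} {R : ℕ}
    (hR : ∀ σ ∈ GE extra, IsInv σ R) :
    ∀ (levels : List Level) (l : List GolayPt) (L : List ℕ), l.Nodup → (∀ y ∈ l, y ∉ L.map pt) →
      (∀ y ∈ l, y ∈ enc.finOf R) → (∀ x ∈ L, x < 24) → l.length ≤ levels.length →
      checkLevels extra levels L = true → (∀ lv ∈ levels.take l.length, lv.FreeIn R) →
      ∃ g ∈ stabL (GE extra) (L.map pt), (levels.take l.length).map (fun lv => g (pt lv.b)) = l := by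
  intro levels
  induction levels with
  | nil =>
    intro l L _ _ _ _ hlen _ _
    have : l = [] := List.length_eq_zero_iff.1 (by simpa using hlen)
    subst this
    exact ⟨1, one_mem _, by simp⟩
  | cons lv rest ih =>
    intro l L hnd hdisj hreg hL hlen hcheck hfree
    cases l with
    | nil => exact ⟨1, one_mem _, by simp⟩
    | cons y l =>
      obtain ⟨h1, h2⟩ := checkLevels_cons hcheck
      have hfl : lv.FreeIn R := hfree lv (by simp)
      obtain ⟨_, hb, _, _, _, _⟩ := checkLevel_spec h1
      have hcell : y ∈ enc.finOf (cell (closRun extra lv.steps (maskL L)) lv.As lv.Bs) := by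
        rw [hfl.1, hfl.2.1, mem_cell]
        refine ⟨fun m hm => ?_, by simp, ?_⟩
        · rw [hfl.2.2 m hm]
          exact hreg y (by simp)
        · have h3 : closRun extra [] (maskL L) = maskL L := rfl
          rw [h3, mem_maskL hL]
          exact hdisj y (by simp)
      obtain ⟨p, _, hpm, hpb⟩ := level_exists hL h1 hcell
      set t := ppm p with ht
      have hnd' := List.nodup_cons.1 hnd
      have hinj : Function.Injective (fun z => t⁻¹ z) := (t⁻¹).injective
      obtain ⟨g, hg, hgmap⟩ := ih (l.map fun z => t⁻¹ z) (lv.b :: L)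
        ((List.nodup_map_iff hinj).2 hnd'.2)
        (by
          intro z hz
          obtain ⟨w, hw, rfl⟩ := List.mem_map.1 hz
          simp only [List.map_cons, List.mem_cons, not_or]
          constructor
          · intro h
            apply hnd'.1
            have h0 : w = t (t⁻¹ w) := by simp
            rw [h, hpb] at h0
            rw [← h0]
            exact hw
          · intro h
            obtain ⟨x, hx, hxw⟩ := List.mem_map.1 h
            have h4 : t (pt x) = pt x := hpm.2 _ (List.mem_map_of_mem hx)
            have h5 : w = pt x := by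
              have : w = t (t⁻¹ w) := by simp
              rw [this, ← hxw, h4]
            apply hdisj w (by simp [hw])
            rw [h5]
            exact List.mem_map_of_mem hx)
        (by
          intro z hz
          obtain ⟨w, hw, rfl⟩ := List.mem_map.1 hz
          have hinv := hR _ ((stabL (GE extra) (L.map pt)).inv_mem hpm).1
          exact (hinv w).2 (hreg w (by simp [hw])))
        (by
          intro x hx
          rcases List.mem_cons.1 hx with rfl | hx
          · exact hb
          · exact hL x hx)
        (by simpa using hlen)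
        h2
        (fun lv' hlv' => hfree lv' (by simpa using Or.inr (by simpa using hlv')))
      refine ⟨t * g, (stabL (GE extra) (L.map pt)).mul_mem hpm ⟨hg.1, fun x hx => hg.2 x (by simp [hx])⟩, ?_⟩
      have hgb : g (pt lv.b) = pt lv.b := hg.2 _ (by simp)
      simp only [List.length_cons, List.take_succ_cons, List.map_cons, Equiv.Perm.mul_apply]
      rw [hgb, hpb]
      congr 1
      have h6 := congrArg (List.map fun z => t z) hgmap
      simp only [List.map_map, Function.comp_def, List.length_map] at h6
      rw [h6]
      simp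

/-! ### Explicit final stabiliser in `M24` -/

/-- Two levels of the chain of `M24` exhaust the stabiliser of a list of points: every element is a
product of two `T`-elements. -/
theorem eq_mul_of_two_levels {lv lv' : Level} {final : List (List ℕ × List ℕ)} {L : List ℕ}
    (hL : ∀ x ∈ L, x < 24) (h : checkChain [] final [lv, lv'] L = true) {σ : Equiv.Perm GolayPt}
    (hσ : σ ∈ stabL (GE []) (L.map pt)) :
    ∃ p ∈ lv.T, ∃ q ∈ lv'.T, σ = ppm p * ppm q := by
  obtain ⟨h1, h2⟩ := checkChain_cons h
  obtain ⟨h3, h4⟩ := checkChain_cons h2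
  obtain ⟨_, hb, _⟩ := checkLevel_spec h1
  obtain ⟨_, hb', _⟩ := checkLevel_spec h3
  have hL1 : ∀ x ∈ lv.b :: L, x < 24 := by
    intro x hx
    rcases List.mem_cons.1 hx with rfl | hx
    · exact hb
    · exact hL x hx
  have hL2 : ∀ x ∈ lv'.b :: lv.b :: L, x < 24 := by
    intro x hx
    rcases List.mem_cons.1 hx with rfl | hx
    · exact hb'
    · exact hL1 x hx
  obtain ⟨p, hp, hpm, hpb⟩ := level_cover hL h1 hσ
  have hnext : (ppm p)⁻¹ * σ ∈ stabL (GE []) ((lv.b :: L).map pt) := by
    have h5 := (stabL (GE []) (L.map pt)).mul_mem ((stabL (GE []) (L.map pt)).inv_mem hpm) hσ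
    refine ⟨h5.1, fun x hx => ?_⟩
    rcases List.mem_cons.1 hx with rfl | hx
    · rw [Equiv.Perm.mul_apply, ← hpb]
      simp
    · exact h5.2 x hx
  obtain ⟨q, hq, hqm, hqb⟩ := level_cover hL1 h3 hnext
  have hnext2 : (ppm q)⁻¹ * ((ppm p)⁻¹ * σ) ∈ stabL (GE []) ((lv'.b :: lv.b :: L).map pt) := by
    have h5 := (stabL (GE []) ((lv.b :: L).map pt)).mul_mem ((stabL (GE []) ((lv.b :: L).map pt)).inv_mem hqm) hnext
    refine ⟨h5.1, fun x hx => ?_⟩
    rcases List.mem_cons.1 hx with rfl | hx
    · rw [Equiv.Perm.mul_apply, ← hqb]
      simp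
    · exact h5.2 x hx
  have h6 := finalOK_of_checkChain [] (lv'.b :: lv.b :: L) hL2 h4 _ hnext2
  refine ⟨p, hp, q, hq, ?_⟩
  have h7 : (ppm p)⁻¹ * σ = ppm q := by
    rw [inv_mul_eq_one] at h6
    exact h6.symm
  rw [inv_mul_eq_iff_eq_mul] at h7
  exact h7

end Cfsg.Agent.Lib.Golay
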