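import Cfsg.Agent.Lib.Golay.Trans

/-!
# Orbits on masks by descent certificates, and orbit-stabiliser for `M24`
-/

set_option autoImplicit false

namespace Cfsg.Agent.Lib.Golay

open Cfsg Cfsg.Agent.Lib.Compute
open scoped Pointwise

/-- One step of the descent check at `k`. -/
noncomputable def descStep (gens : List ℕ) (K : ℕ) (S : ℕ → Bool) (elt ind dist gen : ℕ → ℕ) (k : ℕ) : Bool :=
  (fun g => (fun m => (fun k' =>
      Nat.blt (gen k) gens.length && Nat.blt k' K && S k' && Nat.beq (elt k') m && Nat.blt (dist k') (dist k)) (ind m))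
    (imgMask (pc g) (elt k) 24)) (gens.getD (gen k) 0)

/-- The orbit of a mask: every mask `elt k` with `S k` is mapped to `elt k0` by an element of
`GE extra`. -/
theorem descent {extra : List ℕ} {gens : List ℕ} (hgens : ∀ p ∈ gens, checkElt extra [] p = true)
    {K : ℕ} {S : ℕ → Bool} {elt ind dist gen : ℕ → ℕ} {k0 : ℕ}
    (hcheck : allBelow (fun k => !S k || Nat.beq k k0 || descStep gens K S elt ind dist gen k) K = true) :
    ∀ k, k < K → S k = true → ∃ g ∈ GE extra, (enc.finOf (elt k)).image g = enc.finOf (elt k0) := by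
  have main : ∀ n k, dist k < n → k < K → S k = true →
      ∃ g ∈ GE extra, (enc.finOf (elt k)).image g = enc.finOf (elt k0) := by
    intro n
    induction n with
    | zero => intro k hk; omega
    | succ n ih =>
      intro k hd hk hS
      have h1 := (allBelow_iff _ _).1 hcheck k hk
      simp only [hS, Bool.not_true, Bool.false_or, Bool.or_eq_true] at h1
      rcases h1 with h1 | h1
      · have := Nat.eq_of_beq_eq_true h1
        subst this
        exact ⟨1, one_mem _, by simp⟩
      · simp only [descStep, Bool.and_eq_true] at h1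
        obtain ⟨⟨⟨⟨h2, h3⟩, h4⟩, h5⟩, h6⟩ := h1
        have hgen : gens.getD (gen k) 0 ∈ gens := by
          have : gen k < gens.length := by simpa using h2
          rw [List.getD_eq_getElem _ _ this]
          exact List.getElem_mem this
        have hel := hgens _ hgen
        have hmem := checkElt_mem hel (by simp)
        simp only [List.map_nil, stabL_nil] at hmem
        set t := ppm (gens.getD (gen k) 0) with ht
        have hcode : enc.IsCode t (pc (gens.getD (gen k) 0)) := enc.isCode_perm (checkElt_perm hel)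
        have hk' : ind (imgMask (pc (gens.getD (gen k) 0)) (elt k) 24) < K := by simpa using h3
        have hd' : dist (ind (imgMask (pc (gens.getD (gen k) 0)) (elt k) 24)) < dist k := by
          simpa using h6
        obtain ⟨g, hg, hgi⟩ := ih _ (by omega) hk' h4
        refine ⟨g * t, (GE extra).mul_mem hg hmem, ?_⟩
        have himg : (enc.finOf (elt k)).image t =
            enc.finOf (elt (ind (imgMask (pc (gens.getD (gen k) 0)) (elt k) 24))) := by
          rw [← hcode.finOf_img, Nat.eq_of_beq_eq_true h5]
        rw [← hgi, ← himg, Finset.image_image]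
        rfl
  intro k hk hS
  exact main (dist k + 1) k (Nat.lt_succ_self _) hk hS

/-! ### Group isomorphisms between stabilisers and subgroups of permutations -/

/-- A subgroup of the subtype `G` with the same members as a subgroup `H ≤ G` of the ambient group. -/
def equivOfMemIff {α : Type*} [Group α] {G : Subgroup α} {K : Subgroup G}
    {H : Subgroup α} (h : ∀ σ, ∀ hσ : σ ∈ G, ((⟨σ, hσ⟩ : G) ∈ K ↔ σ ∈ H)) (hHG : H ≤ G) :
    K ≃* H where
  toFun x := ⟨x.1.1, (h _ x.1.2).1 x.2⟩
  invFun y := ⟨⟨y.1, hHG y.2⟩, (h _ (hHG y.2)).2 y.2⟩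
  left_inv _ := rfl
  right_inv _ := rfl
  map_mul' _ _ := rfl

/-! ### Transitivity on octads and orbit-stabiliser -/

theorem coe_smul_finset (g : M24) (s : Finset GolayPt) : g • s = s.image (g : Equiv.Perm GolayPt) :=
  rfl

theorem M24_isMultiplyPretransitive (k : ℕ) (hk : k ≤ 5) :
    MulAction.IsMultiplyPretransitive M24 GolayPt k := by
  have hT5 : MulAction.IsPretransitive M24 (Fin 5 ↪ GolayPt) := M24_five_transitive
  apply MulAction.isMultiplyPretransitive_of_le (n := 5) hk
  have : Nat.card GolayPt = 24 := by simp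
  rw [this]
  norm_num

theorem M24_isPretransitive : MulAction.IsPretransitive M24 GolayPt := by
  have := M24_isMultiplyPretransitive 1 (by norm_num)
  exact MulAction.is_one_pretransitive_iff.1 this

/-- An enumeration of a 5-set. -/
theorem exists_embedding_of_card {s : Finset GolayPt} (hs : s.card = 5) :
    ∃ x : Fin 5 ↪ GolayPt, ∀ a, a ∈ s ↔ ∃ i, x i = a := by
  refine ⟨((Finset.equivFinOfCardEq hs).symm.toEmbedding).trans (Function.Embedding.subtype _), fun a => ?_⟩
  constructor
  · intro ha
    refine ⟨(Finset.equivFinOfCardEq hs) ⟨a, ha⟩, ?_⟩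
    simp
  · rintro ⟨i, rfl⟩
    exact ((Finset.equivFinOfCardEq hs).symm i).2

theorem image_eq_of_maps {g : Equiv.Perm GolayPt} (hg : g ∈ M24) {o o' s s' : Finset GolayPt}
    (ho : o ∈ octads) (ho' : o' ∈ octads) (hs : s ⊆ o) (hs' : s' ⊆ o') (hc : s'.card = 5)
    (hmap : s' ⊆ s.image g) : o.image g = o' :=
  octads_unique (image_mem_octads hg ho) ho' hc
    (hmap.trans (Finset.image_subset_image hs)) hs'

/-- S0367 -/
theorem octads_transitive {o o' : Finset GolayPt} (ho : o ∈ octads) (ho' : o' ∈ octads) :
    ∃ g : M24, g • o = o' := by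
  obtain ⟨s, hs, hc⟩ := Finset.exists_subset_card_eq (n := 5) (by rw [octads_card ho]; norm_num)
  obtain ⟨s', hs', hc'⟩ := Finset.exists_subset_card_eq (s := o') (n := 5) (by rw [octads_card ho']; norm_num)
  obtain ⟨x, hx⟩ := exists_embedding_of_card hc
  obtain ⟨y, hy⟩ := exists_embedding_of_card hc'
  have hT5 : MulAction.IsPretransitive M24 (Fin 5 ↪ GolayPt) := M24_five_transitive
  obtain ⟨g, hg⟩ := MulAction.exists_smul_eq M24 x y
  refine ⟨g, image_eq_of_maps g.2 ho ho' hs hs' hc' ?_⟩
  intro a ha
  obtain ⟨i, rfl⟩ := (hy a).1 ha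
  rw [Finset.mem_image]
  refine ⟨x i, (hx _).2 ⟨i, rfl⟩, ?_⟩
  have := congrArg (fun e : Fin 5 ↪ GolayPt => e i) hg
  exact this

theorem card_stabilizer_of_orbit {X : Type*} [MulAction M24 X] (x : X) (c : ℕ)
    (h : (MulAction.orbit M24 x).ncard = c) (hc : 0 < c) (n : ℕ) (hn : n * c = 244823040) :
    Nat.card (MulAction.stabilizer M24 x) = n := by
  have h1 := Subgroup.card_mul_index (MulAction.stabilizer M24 x)
  rw [MulAction.index_stabilizer, h, card_M24, ← hn] at h1
  exact Nat.eq_of_mul_eq_mul_right hc h1

/-- Point stabiliser. -/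
theorem card_stabilizer_point (p : GolayPt) : Nat.card (MulAction.stabilizer M24 p) = 10200960 := by
  have := M24_isPretransitive
  apply card_stabilizer_of_orbit p 24 _ (by norm_num) _ (by norm_num)
  rw [MulAction.orbit_eq_univ, Set.ncard_univ]
  simp

theorem card_stabilizer_embedding (k : ℕ) (hk : k ≤ 5) (x : Fin k ↪ GolayPt) (n : ℕ)
    (hn : n * (24).descFactorial k = 244823040) : Nat.card (MulAction.stabilizer M24 x) = n := by
  have hpos : 0 < (24).descFactorial k := Nat.descFactorial_pos.2 (by omega)
  apply card_stabilizer_of_orbit x _ _ hpos _ hn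
  have hT : MulAction.IsPretransitive M24 (Fin k ↪ GolayPt) := M24_isMultiplyPretransitive k hk
  have horb : MulAction.orbit M24 x = Set.univ := Set.eq_univ_of_forall fun y => by
    obtain ⟨g, hg⟩ := MulAction.exists_smul_eq M24 x y
    exact ⟨g, hg⟩
  have hcard : (MulAction.orbit M24 x).ncard = (24).descFactorial k := by
    rw [horb, Set.ncard_univ]
    simp [Fintype.card_embedding_eq]
  exact hcard

/-- Two-point stabiliser. -/
theorem card_stabilizer_two {p q : GolayPt} (hpq : p ≠ q) :
    Nat.card ↥(MulAction.stabilizer M24 p ⊓ MulAction.stabilizer M24 q) = 443520 := by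
  let x : Fin 2 ↪ GolayPt := ⟨![p, q], by
    intro i j h
    fin_cases i <;> fin_cases j <;> simp_all⟩
  have h1 := card_stabilizer_embedding 2 (by norm_num) x 443520 (by decide)
  rw [← h1]
  apply Nat.card_congr
  apply Equiv.setCongr
  ext g
  simp only [Subgroup.mem_inf, MulAction.mem_stabilizer_iff, SetLike.mem_coe]
  constructor
  · rintro ⟨h2, h3⟩
    refine Function.Embedding.ext fun i => ?_
    fin_cases i
    · exact h2
    · exact h3
  · intro h
    exact ⟨congrArg (fun e : Fin 2 ↪ GolayPt => e 0) h, congrArg (fun e : Fin 2 ↪ GolayPt => e 1) h⟩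

/-- Basis words and the group. -/
theorem mem_M24_of_basis {σ : Equiv.Perm GolayPt}
    (hb : ∀ g ∈ basis, permWord σ (wordOf g) ∈ golayCode) : σ ∈ M24 := by
  apply mem_M24_of_forall
  have hspan : ∀ (l : List ℕ), (∀ g ∈ l, permWord σ (wordOf g) ∈ golayCode) → ∀ k,
      permWord σ (wordOf (spanWord l k)) ∈ golayCode := by
    intro l
    induction l with
    | nil =>
      intro _ k
      rw [spanWord_nil, wordOf_zero, permWord_zero]
      exact zero_mem _
    | cons g l ih =>
      intro hl k
      have h1 := ih (fun x hx => hl x (by simp [hx])) (k / 2)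
      rw [spanWord_cons]
      cases Nat.beq (k % 2) 1
      · simpa using h1
      · simp only [bcond_true]
        rw [wordOf_xor, permWord_add]
        exact add_mem (hl g (by simp)) h1
  intro w hw
  obtain ⟨k, _, rfl⟩ := exists_word_of_mem hw
  exact hspan basis hb k

theorem basis_octads : basis.all (fun g => inCode g && Nat.beq (Enc.popAux g 24) 8) = true := by
  decide +kernel

theorem smul_octads_subset {σ : Equiv.Perm GolayPt} (hσ : σ ∈ M24) : σ • octads ⊆ octads := by
  rintro _ ⟨o, ho, rfl⟩
  exact image_mem_octads hσ ho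

/-- S0369 -/
theorem M24_eq_setSystemAut : M24 = setSystemAut octads := by
  ext σ
  constructor
  · intro hσ
    refine MulAction.mem_stabilizer_iff.2 ?_
    apply Set.eq_of_subset_of_ncard_le (smul_octads_subset hσ) _ (Set.toFinite _)
    rw [Set.ncard_smul_set]
  · intro hσ
    have h1 : σ • octads = octads := MulAction.mem_stabilizer_iff.1 hσ
    apply mem_M24_of_basis
    intro g hg
    have h2 := List.all_eq_true.1 basis_octads g hg
    simp only [Bool.and_eq_true] at h2
    have hoct : enc.finOf g ∈ octads := by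
      refine ⟨⟨wordOf g, mem_of_inCode h2.1, support_wordOf g⟩, ?_⟩
      rw [card_enc_finOf]
      exact Nat.eq_of_beq_eq_true h2.2
    have h3 : σ • enc.finOf g ∈ octads := by
      rw [← h1]
      exact Set.smul_mem_smul_set hoct
    obtain ⟨⟨w, hw, hsw⟩, _⟩ := h3
    rw [← support_wordOf, ← support_permWord] at hsw
    rw [← support_inj hsw]
    exact hw

end Cfsg.Agent.Lib.Golay
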