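import Cfsg.Agent.Lib.Golay.M24Data

/-!
# Transitivity from chain certificates
-/

set_option autoImplicit false

namespace Cfsg.Agent.Lib.Golay

open Cfsg Cfsg.Agent.Lib.Compute
open scoped Pointwise

theorem isInv_ALL (σ : Equiv.Perm GolayPt) : IsInv σ ALL := by
  intro a
  rw [Enc.mem_finOf, Enc.mem_finOf, testBit_ALL (enc.idx_lt _), testBit_ALL (enc.idx_lt _)]

theorem mem_finOf_ALL (a : GolayPt) : a ∈ enc.finOf ALL := by
  rw [Enc.mem_finOf]
  exact testBit_ALL (enc.idx_lt a)

/-- Unfolding `checkLevel`. -/
theorem checkLevel_spec {extra L : List ℕ} {lv : Level} (h : checkLevel extra L lv = true) :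
    validLists extra (closRun extra lv.steps (maskL L)) lv.As lv.Bs = true ∧
    lv.b < 24 ∧ tb (cell (closRun extra lv.steps (maskL L)) lv.As lv.Bs) lv.b = true ∧
    (allBelow (fun i => !tb (cell (closRun extra lv.steps (maskL L)) lv.As lv.Bs) i ||
        (lv.T.map fun p => pc p lv.b).contains i) 24 = true) ∧
    (∀ p ∈ lv.T, checkElt extra L p = true) ∧ (lv.T.map fun p => pc p lv.b).Nodup := by
  have h1' : ((validLists extra (closRun extra lv.steps (maskL L)) lv.As lv.Bs &&
      decide (lv.b < 24) &&
      tb (cell (closRun extra lv.steps (maskL L)) lv.As lv.Bs) lv.b &&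
      allBelow (fun i => !tb (cell (closRun extra lv.steps (maskL L)) lv.As lv.Bs) i ||
        (lv.T.map fun p => pc p lv.b).contains i) 24) &&
      lv.T.all (checkElt extra L) &&
      decide ((lv.T.map fun p => pc p lv.b).Nodup)) = true := h
  simp only [Bool.and_eq_true, decide_eq_true_eq, List.all_eq_true] at h1'
  obtain ⟨⟨⟨⟨⟨hv, hb⟩, hbc⟩, hcov⟩, helt⟩, hnd⟩ := h1'
  exact ⟨hv, hb, hbc, hcov, helt, hnd⟩

/-- A level provides elements mapping its base point to every point of its cell. -/
theorem level_exists {extra L : List ℕ} {lv : Level} (hL : ∀ x ∈ L, x < 24)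
    (h : checkLevel extra L lv = true) {a : GolayPt}
    (ha : a ∈ enc.finOf (cell (closRun extra lv.steps (maskL L)) lv.As lv.Bs)) :
    ∃ p ∈ lv.T, ppm p ∈ stabL (GE extra) (L.map pt) ∧ ppm p (pt lv.b) = a := by
  obtain ⟨_, hb, _, hcov, helt, _⟩ := checkLevel_spec h
  have h4 := (allBelow_iff _ _).1 hcov _ (idx_lt a)
  have h6 : tb (cell (closRun extra lv.steps (maskL L)) lv.As lv.Bs) (idx a) = true := by
    rw [tb_eq]
    simpa using ha
  rw [h6, Bool.not_true, Bool.false_or] at h4
  have h7 : idx a ∈ lv.T.map fun p => pc p lv.b := by simpa using h4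
  obtain ⟨p, hp, hpv⟩ := List.mem_map.1 h7
  refine ⟨p, hp, checkElt_mem (helt p hp) hL, ?_⟩
  rw [enc.perm_apply (checkElt_perm (helt p hp)), enc_idx, enc_pt, idx_pt hb, hpv, pt_idx]

/-- A level is *free in the region `R`* when its cell consists of all the non-fixed points of `R`. -/
def Level.FreeIn (lv : Level) (R : ℕ) : Prop :=
  lv.steps = [] ∧ lv.Bs = [] ∧ ∀ m ∈ lv.As, m = R

/-- Multiple transitivity from the levels of a chain. -/
theorem exists_maps {extra : List ℕ} {final : List (List ℕ × List ℕ)} {R : ℕ}
    (hR : ∀ σ ∈ GE extra, IsInv σ R) :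
    ∀ (levels : List Level) (l : List GolayPt) (L : List ℕ), l.Nodup → (∀ y ∈ l, y ∉ L.map pt) →
      (∀ y ∈ l, y ∈ enc.finOf R) → (∀ x ∈ L, x < 24) → l.length ≤ levels.length →
      checkChain extra final levels L = true → (∀ lv ∈ levels.take l.length, lv.FreeIn R) →
      ∃ g ∈ stabL (GE extra) (L.map pt), (levels.take l.length).map (fun lv => g (pt lv.b)) = l := by
  intro levels
  induction levels with
  | nil =>
    intro l L _ _ _ _ hlen _ _
    have : l = [] := List.length_eq_zero_iff.1 (by simpa using hlen)
    subst this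
    exact ⟨1, one_mem _, by simp⟩
  | cons lv rest ih =>
    intro l L hnd hdisj hreg hL hlen hcheck hfree
    cases l with
    | nil => exact ⟨1, one_mem _, by simp⟩
    | cons y l =>
      have h' : checkLevel extra L lv = true ∧ checkChain extra final rest (lv.b :: L) = true := by
        simpa [checkChain] using hcheck
      obtain ⟨h1, h2⟩ := h'
      have hfl : lv.FreeIn R := hfree lv (by simp)
      obtain ⟨_, hb, _, _, _, _⟩ := checkLevel_spec h1
      have hcell : y ∈ enc.finOf (cell (closRun extra lv.steps (maskL L)) lv.As lv.Bs) := by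
        rw [hfl.1, hfl.2.1, mem_cell]
        refine ⟨fun m hm => ?_, by simp, ?_⟩
        · rw [hfl.2.2 m hm]
          exact hreg y (by simp)
        · have h3 : closRun extra [] (maskL L) = maskL L := rfl
          rw [h3, mem_maskL hL]
          exact hdisj y (by simp)
      obtain ⟨p, _, hpm, hpb⟩ := level_exists hL h1 hcell
      set t := ppm p with ht
      have hnd' := List.nodup_cons.1 hnd
      have hinj : Function.Injective (fun z => t⁻¹ z) := (t⁻¹).injective
      obtain ⟨g, hg, hgmap⟩ := ih (l.map fun z => t⁻¹ z) (lv.b :: L)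
        ((List.nodup_map_iff hinj).2 hnd'.2)
        (by
          intro z hz
          obtain ⟨w, hw, rfl⟩ := List.mem_map.1 hz
          simp only [List.map_cons, List.mem_cons, not_or]
          constructor
          · intro h
            apply hnd'.1
            have h0 : w = t (t⁻¹ w) := by simp
            rw [h, hpb] at h0
            rw [← h0]
            exact hw
          · intro h
            obtain ⟨x, hx, hxw⟩ := List.mem_map.1 h
            have h4 : t (pt x) = pt x := hpm.2 _ (List.mem_map_of_mem hx)
            have h5 : w = pt x := by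
              have : w = t (t⁻¹ w) := by simp
              rw [this, ← hxw, h4]
            apply hdisj w (by simp [hw])
            rw [h5]
            exact List.mem_map_of_mem hx)
        (by
          intro z hz
          obtain ⟨w, hw, rfl⟩ := List.mem_map.1 hz
          have hinv := hR _ ((stabL (GE extra) (L.map pt)).inv_mem hpm).1
          exact (hinv w).2 (hreg w (by simp [hw])))
        (by
          intro x hx
          rcases List.mem_cons.1 hx with rfl | hx
          · exact hb
          · exact hL x hx)
        (by simpa using hlen)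
        h2
        (fun lv' hlv' => hfree lv' (by simpa using Or.inr (by simpa using hlv')))
      refine ⟨t * g, (stabL (GE extra) (L.map pt)).mul_mem hpm ⟨hg.1, fun x hx => hg.2 x (by simp [hx])⟩, ?_⟩
      have hgb : g (pt lv.b) = pt lv.b := hg.2 _ (by simp)
      simp only [List.length_cons, List.take_succ_cons, List.map_cons, Equiv.Perm.mul_apply]
      rw [hgb, hpb]
      congr 1
      have h6 := congrArg (List.map fun z => t z) hgmap
      simp only [List.map_map, Function.comp_def, List.length_map] at h6
      rw [h6]
      simp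

/-- `k`-transitivity statement for a chain, in terms of embeddings. -/
theorem exists_embedding_maps {extra : List ℕ} {final : List (List ℕ × List ℕ)} {R : ℕ}
    (hR : ∀ σ ∈ GE extra, IsInv σ R) {k : ℕ} (levels : List Level) (hlen : k ≤ levels.length)
    (hcheck : checkChain extra final levels [] = true) (hfree : ∀ lv ∈ levels.take k, lv.FreeIn R)
    (x : Fin k ↪ GolayPt) (hx : ∀ i, x i ∈ enc.finOf R) :
    ∃ g ∈ GE extra, (levels.take k).map (fun lv => g (pt lv.b)) = List.ofFn x := by
  have hnd : (List.ofFn x).Nodup := List.nodup_ofFn.2 x.injective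
  obtain ⟨g, hg, hmap⟩ := exists_maps hR levels (List.ofFn x) [] hnd (by simp)
    (by
      intro y hy
      obtain ⟨i, rfl⟩ := (List.mem_ofFn' _ _).1 hy
      exact hx i) (by simp) (by simpa using hlen) hcheck
    (by simpa using hfree)
  rw [List.map_nil, stabL_nil] at hg
  refine ⟨g, hg, ?_⟩
  simpa using hmap

/-! ### `M24` is 5-transitive -/

/-- The first five base points of the chain. -/
def base5 : Fin 5 → GolayPt := ![pt 23, pt 0, pt 1, pt 2, pt 3]

theorem base5_injective : Function.Injective base5 := by decide

/-- Any 5 distinct points are the image of the base points. -/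
theorem exists_M24_base5 (x : Fin 5 ↪ GolayPt) : ∃ g ∈ M24, ∀ i, g (base5 i) = x i := by
  obtain ⟨g, hg, h⟩ := exists_embedding_maps (R := ALL) (extra := []) (final := m24Final)
    (fun σ _ => isInv_ALL σ) (k := 5) m24Levels (by decide) m24_check
    (by
      intro lv hlv
      have : m24Levels.take 5 = [m24Level1, m24Level2, m24Level3, m24Level4, m24Level5] := rfl
      rw [this] at hlv
      simp only [List.mem_cons, List.not_mem_nil, or_false] at hlv
      rcases hlv with rfl | rfl | rfl | rfl | rfl <;> exact ⟨rfl, rfl, by simp [m24Level1, m24Level2, m24Level3, m24Level4, m24Level5]⟩)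
    x (fun i => mem_finOf_ALL _)
  rw [GE_nil] at hg
  refine ⟨g, hg, ?_⟩
  have h2 : m24Levels.take 5 = [m24Level1, m24Level2, m24Level3, m24Level4, m24Level5] := rfl
  rw [h2] at h
  simp only [List.map_cons, List.map_nil, List.ofFn_succ, List.ofFn_zero] at h
  simp only [List.cons.injEq, and_true] at h
  obtain ⟨h0, h1, h2, h3, h4⟩ := h
  intro i
  fin_cases i
  · exact h0
  · exact h1
  · exact h2
  · exact h3
  · exact h4

theorem M24_five_transitive : MulAction.IsMultiplyPretransitive M24 GolayPt 5 := by
  rw [MulAction.isMultiplyPretransitive_iff]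
  intro x y
  obtain ⟨g, hg, hgx⟩ := exists_M24_base5 x
  obtain ⟨h, hh, hhy⟩ := exists_M24_base5 y
  refine ⟨⟨h * g⁻¹, M24.mul_mem hh (M24.inv_mem hg)⟩, ?_⟩
  refine Function.Embedding.ext fun i => ?_
  show (h * g⁻¹) (x i) = y i
  rw [Equiv.Perm.mul_apply, ← hgx i, show g⁻¹ (g (base5 i)) = base5 i by simp, hhy]

end Cfsg.Agent.Lib.Golay
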